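import Groth.Agent.TwistEmbLib.Main

/-!
# The criterion
-/

set_option autoImplicit false
set_option linter.style.haveILetI false
set_option backward.isDefEq.respectTransparency false
set_option backward.isDefEq.respectTransparency.types false

noncomputable section

universe u

open CategoryTheory CategoryTheory.Limits AlgebraicGeometry TopologicalSpace Opposite
open DevissLib
open AmpleLib (res GenAt GenOn)
open TwistLib (genSet)
open DegenGenLib (coprojC ι_coprojC)

namespace TwistEmbLib

variable (k : Type u) [Field k] (X : Scheme.{u}) [X.Over (Spec (CommRingCat.of k))]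
  [IsProper (X ↘ Spec (CommRingCat.of k))] [AlgebraicGeometry.IsReduced X]

include k in
theorem isField_iff {x : X} : IsField (X.presheaf.stalk x) ↔ FinPicLib.IsGen x := by
  haveI := CurvLib.isNoetherian k (X := X)
  exact ⟨ProdDepthTwoLib.isGen_of_isField, fun h => TFQuotLib.isField_stalk_generic (TFQuotLib.mem_genericPoints h)⟩

variable [ConnectedSpace X] (hdim : topologicalKrullDim X = 1)

include k hdim in
theorem not_isClosed_of_isGen {x : X} (hx : FinPicLib.IsGen x) : ¬ IsClosed ({x} : Set X) := fun hc => by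
  haveI := CurvLib.isNoetherian k (X := X)
  have ho := ProdDepthTwoLib.isOpen_singleton_of_isGen hx hc
  have hu : ({x} : Set X) = Set.univ := IsClopen.eq_univ ⟨hc, ho⟩ (Set.singleton_nonempty x)
  haveI : Subsingleton X := ⟨fun a b => by
    have ha : a ∈ ({x} : Set X) := hu ▸ Set.mem_univ a
    have hb : b ∈ ({x} : Set X) := hu ▸ Set.mem_univ b
    rw [Set.mem_singleton_iff] at ha hb
    rw [ha, hb]⟩
  haveI : DiscreteTopology X := inferInstance
  have := topologicalKrullDim_zero_of_discreteTopology X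
  rw [hdim] at this
  exact absurd this (by simp)

include k hdim in
theorem forward (L : X.Modules) (hL : CohB1.IsAmple L) (F : X.Modules) (hF : Coh.IsCoh F) (r : ℕ)
    (hdepth : ∀ x : X, IsClosed ({x} : Set X) → ¬ Curv2.IsAssPoint F x)
    (hrank : ∀ η : X, IsField (X.presheaf.stalk η) →
      Nonempty (F.presheaf.stalk η ≃ₗ[X.presheaf.stalk η] (Fin r → X.presheaf.stalk η)))
    [Infinite k] :
    ∃ (m : ℕ) (ι : F ⟶ ∐ fun _ : Fin r => CohB1.tensorPow L m), Mono ι ∧
      ∀ η : X, IsField (X.presheaf.stalk η) → Subsingleton ((cokernel ι).presheaf.stalk η) := by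
  classical
  haveI := CurvLib.isNoetherian k (X := X)
  haveI : X.IsSeparated := ⟨by
    rw [show terminal.from X = (X ↘ Spec (CommRingCat.of k)) ≫ terminal.from _ from terminalIsTerminal.hom_ext _ _]
    infer_instance⟩
  have hLi := hL.1
  have hfield := fun {x : X} => isField_iff k X (x := x)
  have hpure : ∀ x, Asso F x → FinPicLib.IsGen x := fun x hx => by
    by_contra hg
    exact hdepth x (ModifPtLib.isClosed_of_not_isGen hdim.le hg) (assPoint_of_asso hx)
  let S : Finset X := (FinPicLib.finite_isGen (α := X)).toFinset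
  have hS : ∀ η, η ∈ S ↔ FinPicLib.IsGen η := fun η => Set.Finite.mem_toFinset _
  -- a section with big twist
  obtain ⟨N₁, V₁, hN₁, ⟨σ₁, hσ₁⟩, hSV₁, -, -⟩ :=
    AmpleThLib.exists_locus_finset hLi hL (FinPicLib.finite_isGen (α := X)) ⊤ (fun _ _ => trivial)
  obtain ⟨n₀, hn₀⟩ := MiscFlat6.eventually_gg_of_isAmple hL F hF
  let P₁ := CohB1.tensorPow L N₁
  let a := AmpleThLib.pS σ₁ n₀
  let Q₁ := CohB1.tensorPow P₁ n₀
  have hQ₁ : PicF.IsInvertible Q₁ :=
    AmpleThLib.tensorPow_isInvertible (AmpleThLib.tensorPow_isInvertible hLi N₁) n₀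
  have hgena : ∀ η, FinPicLib.IsGen η → GenAt Q₁ a (x := η) (show η ∈ (⊤ : X.Opens) from trivial) := fun η hη => by
    have h1 : η ∈ genSet (AmpleThLib.tensorPow_isInvertible hLi N₁) σ₁ := hσ₁.ge (hSV₁ hη)
    exact AmpleThLib.pS_genAt h1 n₀
  let F₂ := (G Q₁).obj F
  have hF₂ : Coh.IsCoh F₂ := BddFamLib.isCoh_tensorMod hF (CurvLib.isCoh_of_isInvertible hQ₁)
  obtain ⟨e₁, -⟩ := AmpleThLib.exists_powIso (L := L) hLi N₁ n₀
  have hgg : Curv2.IsGloballyGenerated F₂ := by
    obtain ⟨ι', p, hp⟩ := hn₀ (N₁ * n₀) (Nat.le_mul_of_pos_left n₀ hN₁)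
    exact ⟨ι', p ≫ (HilbPolyLib.congrRight F e₁.symm).hom, inferInstance⟩
  have hrank₂ : ∀ η ∈ S, Nonempty ((St η).obj F₂ ≃ₗ[X.presheaf.stalk η] (Fin r → X.presheaf.stalk η)) := by
    intro η hη
    obtain ⟨e⟩ := hrank η (hfield.2 ((hS η).1 hη))
    exact ⟨(LinearEquiv.ofBijective ((St η).map (mulHom a F)).hom
      (bijective_mulHom a F (hgena η ((hS η).1 hη)))).symm ≪≫ₗ e⟩
  obtain ⟨f, hf⟩ := exists_frame k hF₂ hgg S (fun η hη => hfield.2 ((hS η).1 hη)) r hrank₂
  let O := Coh.structureModule X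
  let φ : (∐ fun _ : Fin r => O) ⟶ F₂ := Sigma.desc f
  have hφ : ∀ η, FinPicLib.IsGen η → Function.Bijective ((St η).map φ).hom := by
    intro η hη
    letI := (hfield.2 hη).toField
    obtain ⟨e⟩ := hrank₂ η ((hS η).2 hη)
    let g := KoszIntLib.one' (X := X) η
    let c := coordEquiv (r := r) O η g (KoszIntLib.one'_bijective η)
    have hc : ∀ v, ((St η).map φ).hom (c v) = Fintype.linearCombination (X.presheaf.stalk η) (fun i => value η (f i)) v := by
      intro v
      show ((St η).map φ).hom (Fintype.linearCombination (X.presheaf.stalk η)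
        (fun i => ((St η).map (Sigma.ι (fun _ : Fin r => O) i)).hom g) v) = _
      rw [Fintype.linearCombination_apply, Fintype.linearCombination_apply, map_sum]
      refine Finset.sum_congr rfl fun i _ => ?_
      rw [map_smul, ← LinearMap.comp_apply, ← ModuleCat.hom_comp, ← Functor.map_comp]
      simp only [φ, Sigma.ι_desc]
      rfl
    have hli := hf η ((hS η).2 hη)
    have hb : Function.Bijective (Fintype.linearCombination (X.presheaf.stalk η) fun i => value η (f i)) := by
      haveI : Module.Finite (X.presheaf.stalk η) ((St η).obj F₂) := Module.Finite.equiv e.symm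
      have hinj : Function.Injective (Fintype.linearCombination (X.presheaf.stalk η) fun i => value η (f i)) :=
        hli.fintypeLinearCombination_injective
      exact ⟨hinj, (LinearMap.injective_iff_surjective_of_finrank_eq_finrank
        (by rw [e.finrank_eq])).1 hinj⟩
    have : Function.Bijective (((St η).map φ).hom ∘ c) := by
      have h1 : ((St η).map φ).hom ∘ c = Fintype.linearCombination (X.presheaf.stalk η) fun i => value η (f i) :=
        funext hc
      rw [h1]; exact hb
    exact (Function.Bijective.of_comp_iff _ c.bijective).1 this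
  have hsum : ∀ {Q : X.Modules}, PicF.IsInvertible Q → ∀ x, Asso (∐ fun _ : Fin r => Q) x → FinPicLib.IsGen x :=
    fun hQ x hx => hfield.1 (isField_of_asso_sum hQ hx)
  have hOc : Coh.IsCoh (∐ fun _ : Fin r => O) := CurvLib.isCoh_of_locFree (VBResLib.rank_freeMod r)
  haveI : Coh.IsQCoh (∐ fun _ : Fin r => O) := hOc.1
  haveI : Coh.IsQCoh F₂ := hF₂.1
  haveI : Mono φ := mono_of_gen φ hOc hF₂.1 (hsum CurvLib.isInvertible_structureModule) fun η hη => (hφ η hη).1
  -- a section killing the cokernel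
  let C := cokernel φ
  have hC : Coh.IsCoh C := QCohLib.isCoh_cokernel φ hOc.1 hF₂
  have hsuppC : ∀ η, FinPicLib.IsGen η → η ∉ CohB1.support C := fun η hη => by
    rw [DevissLib.notMem_support_iff]
    haveI : Epi ((St η).map φ) := (ModuleCat.epi_iff_surjective _).2 (hφ η hη).2
    exact (isZero_cokernel_of_epi _).of_iso (PreservesCokernel.iso (St η) φ)
  let U₂ : X.Opens := ⟨(CohB1.support C)ᶜ, (QCohLib.isClosed_support _ hC.2).isOpen_compl⟩
  obtain ⟨N₂, V₂, hN₂, ⟨σ₂, hσ₂⟩, hSV₂, hVU₂, -⟩ :=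
    AmpleThLib.exists_locus_finset hLi hL (FinPicLib.finite_isGen (α := X)) U₂ (fun η hη => hsuppC η hη)
  obtain ⟨n, hn⟩ := exists_pow_kill (AmpleThLib.tensorPow_isInvertible hLi N₂) σ₂ C hC
    (fun y hy => hVU₂ (hσ₂.le hy))
  let b := AmpleThLib.pS σ₂ n
  let Q₂ := CohB1.tensorPow (CohB1.tensorPow L N₂) n
  have hQ₂ : PicF.IsInvertible Q₂ :=
    AmpleThLib.tensorPow_isInvertible (AmpleThLib.tensorPow_isInvertible hLi N₂) n
  have hgenb : ∀ η, FinPicLib.IsGen η → GenAt Q₂ b (x := η) (show η ∈ (⊤ : X.Opens) from trivial) := fun η hη => by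
    have h1 : η ∈ genSet (AmpleThLib.tensorPow_isInvertible hLi N₂) σ₂ := hσ₂.ge (hSV₂ hη)
    exact AmpleThLib.pS_genAt h1 n
  obtain ⟨e₂, -⟩ := AmpleThLib.exists_powIso (L := L) hLi N₂ n
  let T : ShortComplex X.Modules := ShortComplex.mk ((G Q₂).map φ) ((G Q₂).map (cokernel.π φ)) (by
    rw [← Functor.map_comp, cokernel.condition, Functor.map_zero])
  let eQ : (G Q₂).obj (∐ fun _ : Fin r => O) ≅ ∐ fun _ : Fin r => CohB1.tensorPow L (N₂ * n) :=
    PreservesCoproduct.iso (G Q₂) (fun _ : Fin r => O) ≪≫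
      Sigma.mapIso (fun _ => HilbPolyLib.unitLeft Q₂ ≪≫ e₂)
  have hGφ : ∀ η, FinPicLib.IsGen η → Function.Bijective ((St η).map T.f).hom := by
    intro η hη
    have h1 : ((St η).map φ) ≫ (St η).map (mulHom b F₂) = (St η).map (mulHom b _) ≫ (St η).map T.f := by
      rw [← Functor.map_comp, ← Functor.map_comp, mulHom_natural]
    haveI : IsIso ((St η).map φ) := (ConcreteCategory.isIso_iff_bijective _).2 (hφ η hη)
    haveI : IsIso ((St η).map (mulHom b F₂)) :=
      (ConcreteCategory.isIso_iff_bijective _).2 (bijective_mulHom b F₂ (hgenb η hη))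
    haveI : IsIso ((St η).map (mulHom b (∐ fun _ : Fin r => O))) :=
      (ConcreteCategory.isIso_iff_bijective _).2 (bijective_mulHom b _ (hgenb η hη))
    haveI : IsIso ((St η).map T.f) := IsIso.of_isIso_fac_left h1.symm
    exact ConcreteCategory.bijective_of_isIso _
  have hLm : PicF.IsInvertible (CohB1.tensorPow L (N₂ * n)) := AmpleThLib.tensorPow_isInvertible hLi _
  have hGc : Coh.IsCoh ((G Q₂).obj (∐ fun _ : Fin r => O)) :=
    BddFamLib.isCoh_tensorMod hOc (CurvLib.isCoh_of_isInvertible hQ₂)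
  haveI : Mono T.f := mono_of_gen T.f hGc
    (BddFamLib.isCoh_tensorMod hF₂ (CurvLib.isCoh_of_isInvertible hQ₂)).1
    (fun x hx => hsum hLm x (hx.of_mono eQ.hom)) fun η hη => (hGφ η hη).1
  have hT : T.Exact := ShortComplex.exact_of_g_is_cokernel _
    (isColimitCoforkMapOfIsColimit' (G Q₂) (cokernel.condition φ) (cokernelIsCokernel φ))
  have hkill : mulHom b F₂ ≫ T.g = 0 := by
    rw [show T.g = (G Q₂).map (cokernel.π φ) from rfl, ← mulHom_natural, hn n le_rfl, comp_zero]
  let l := hT.lift (mulHom b F₂) hkill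
  have hl : l ≫ T.f = mulHom b F₂ := hT.lift_f _ _
  let ι := mulHom a F ≫ l ≫ eQ.hom
  have hι : ∀ η, FinPicLib.IsGen η → Function.Bijective ((St η).map ι).hom := by
    intro η hη
    haveI : IsIso ((St η).map (mulHom a F)) :=
      (ConcreteCategory.isIso_iff_bijective _).2 (bijective_mulHom a F (hgena η hη))
    haveI : IsIso ((St η).map (mulHom b F₂)) :=
      (ConcreteCategory.isIso_iff_bijective _).2 (bijective_mulHom b F₂ (hgenb η hη))
    haveI : IsIso ((St η).map T.f) := (ConcreteCategory.isIso_iff_bijective _).2 (hGφ η hη)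
    haveI : IsIso ((St η).map l) := IsIso.of_isIso_fac_right
      (h := (St η).map (mulHom b F₂)) (by rw [← Functor.map_comp, hl])
    haveI : IsIso ((St η).map ι) := by
      simp only [ι, Functor.map_comp]
      infer_instance
    exact ConcreteCategory.bijective_of_isIso _
  refine ⟨N₂ * n, ι, mono_of_gen ι hF ?_ hpure fun η hη => (hι η hη).1, fun η hη => ?_⟩
  · exact (QCohLib.isCoh_of_iso eQ hGc).1
  · haveI : Epi ((St η).map ι) := (ModuleCat.epi_iff_surjective _).2 (hι η (hfield.1 hη)).2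
    exact ModuleCat.subsingleton_of_isZero ((isZero_cokernel_of_epi _).of_iso (PreservesCokernel.iso (St η) ι))

include k hdim in
theorem backward (L : X.Modules) (hL : CohB1.IsAmple L) (F : X.Modules) (r : ℕ) (m : ℕ)
    (ι : F ⟶ ∐ fun _ : Fin r => CohB1.tensorPow L m) [Mono ι]
    (hco : ∀ η : X, IsField (X.presheaf.stalk η) → Subsingleton ((cokernel ι).presheaf.stalk η)) :
    (∀ x : X, IsClosed ({x} : Set X) → ¬ Curv2.IsAssPoint F x) ∧
      (∀ η : X, IsField (X.presheaf.stalk η) →
        Nonempty (F.presheaf.stalk η ≃ₗ[X.presheaf.stalk η] (Fin r → X.presheaf.stalk η))) := by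
  haveI := CurvLib.isNoetherian k (X := X)
  have hP := AmpleThLib.tensorPow_isInvertible hL.1 m
  refine ⟨fun x hx h => not_isClosed_of_isGen k X hdim
    ((isField_iff k X).1 (isField_of_asso_sum hP ((asso_of_assPoint h).of_mono ι))) hx, fun η hη => ?_⟩
  haveI := hco η hη
  haveI : Mono ((St η).map ι) := inferInstance
  haveI : Subsingleton ((St η).obj (cokernel ι)) := hco η hη
  haveI : Epi ((St η).map ι) := Abelian.epi_of_cokernel_π_eq_zero _
    (((ModuleCat.isZero_of_subsingleton ((St η).obj (cokernel ι))).of_iso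
      (PreservesCokernel.iso (St η) ι).symm).eq_of_tgt _ _)
  haveI : IsIso ((St η).map ι) := isIso_of_mono_of_epi _
  obtain ⟨U, e, hU, he⟩ := TwistLib.exists_genOn hP η
  exact ⟨(asIso ((St η).map ι)).toLinearEquiv ≪≫ₗ (coordEquiv (r := r) (CohB1.tensorPow L m) η
    (gm (CohB1.tensorPow L m) η hU e) (he.genAt hU)).symm⟩

end TwistEmbLib

end
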