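import Groth.Agent.GaetaPtsLib.Vanish
import Groth.Agent.AmpleThLib.FiniteSet
import Groth.Agent.AmpleThLib.Pow
import Groth.Agent.AssPointLib.Basic
import Groth.Agent.TFQuotLib.Simple
import Groth.Agent.TFExtLib.Ascend
import Groth.Agent.KoszIntLib.Stalk
import Groth.Agent.FinPicLib.Topo
import Groth.Agent.ProdDepthTwoLib.Main
import Groth.Agent.DegenGenLib.Split
import Groth.Agent.VBResLib.GGen
import Groth.Agent.MiscFlat6.AmpleGen

/-!
# Multiplication by sections and embeddings into sums of invertible modules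
-/

set_option autoImplicit false
set_option linter.style.haveILetI false
set_option backward.isDefEq.respectTransparency false
set_option backward.isDefEq.respectTransparency.types false

noncomputable section

universe u

open CategoryTheory CategoryTheory.Limits AlgebraicGeometry TopologicalSpace Opposite
open DevissLib
open AmpleLib (res GenAt GenOn)
open TwistLib (genSet)
open scoped TensorProduct

namespace TwistEmbLib

variable {X : Scheme.{u}}

/-- Tensoring on the right. -/
abbrev G (Q : X.Modules) : X.Modules ⥤ X.Modules := (DCoh.tensorBi (X := X)).flip.obj Q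

/-- Multiplication by a global section. -/
def mulHom {Q : X.Modules} (σ : Γ(Q, (⊤ : X.Opens))) (M : X.Modules) : M ⟶ (G Q).obj M :=
  (GaetaPtsLib.rU M).inv ≫ (CurvLib.tensorLeft' M).map (QCohLib.unitHom Q σ)

theorem mulHom_natural {Q : X.Modules} (σ : Γ(Q, (⊤ : X.Opens))) {M N : X.Modules} (φ : M ⟶ N) :
    φ ≫ mulHom σ N = mulHom σ M ≫ (G Q).map φ := by
  rw [mulHom, mulHom, ← Category.assoc, GaetaPtsLib.rU_inv_natural, Category.assoc, Category.assoc]
  exact congrArg ((GaetaPtsLib.rU M).inv ≫ ·) (((DCoh.tensorBi (X := X)).map φ).naturality _).symm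

theorem value_unitHom {M : X.Modules} (f : Coh.structureModule X ⟶ M) (x : X) :
    ((St x).map f).hom (KoszIntLib.one' x) = gm M (U := ⊤) x trivial (f.app ⊤ (1 : Γ(X, ⊤))) :=
  gm_app (U := ⊤) f x trivial _

theorem unitHom_one {Q : X.Modules} (σ : Γ(Q, (⊤ : X.Opens))) :
    (QCohLib.unitHom Q σ).app ⊤ (1 : Γ(X, ⊤)) = σ := by
  rw [QCohLib.unitHom_app, one_smul]
  exact ConcreteCategory.congr_hom (Q.presheaf.map_id (op ⊤)) σ

theorem stalk_unitHom {Q : X.Modules} (σ : Γ(Q, (⊤ : X.Opens))) (x : X) (c : X.presheaf.stalk x) :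
    ((St x).map (QCohLib.unitHom Q σ)).hom (c • KoszIntLib.one' x) = c • gm Q (U := ⊤) x trivial σ := by
  rw [map_smul, value_unitHom, unitHom_one]

theorem stalk_mulHom {Q : X.Modules} (σ : Γ(Q, (⊤ : X.Opens))) (M : X.Modules) (x : X) (a : (St x).obj M) :
    ∃ b, ((St x).map (mulHom σ M)).hom a =
      (KFlatLib.stalkTensorIso M Q x).hom.hom (((St x).map (QCohLib.unitHom Q σ)).hom.lTensor ((St x).obj M) b) := by
  obtain ⟨b, hb⟩ : ∃ b, (KFlatLib.stalkTensorIso M (Coh.structureModule X) x).hom.hom b =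
      ((St x).map (GaetaPtsLib.rU M).inv).hom a :=
    (KFlatLib.stalkTensorIso M (Coh.structureModule X) x).toLinearEquiv.surjective _
  refine ⟨b, ?_⟩
  rw [mulHom, Functor.map_comp, ModuleCat.hom_comp, LinearMap.comp_apply, ← hb]
  exact (congr($(KFlatLib.stalkTensorIso_natural_right (M := M) x (QCohLib.unitHom Q σ)).hom b)).symm

theorem eq_zero_of_stalk {A B : X.Modules} (φ : A ⟶ B) (h : ∀ x : X, ∀ a, ((St x).map φ).hom a = 0) : φ = 0 := by
  refine Scheme.Modules.hom_ext _ _ fun V => ConcreteCategory.hom_ext _ _ fun t => TwistLib.mod_ext B fun x hx => ?_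
  exact (gm_app φ x hx t).symm.trans ((h x _).trans (gm_zero B x hx).symm)

/-- Multiplication by a section is bijective on stalks where the section generates. -/
theorem bijective_mulHom {Q : X.Modules} (σ : Γ(Q, (⊤ : X.Opens))) (M : X.Modules) {x : X}
    (h : GenAt Q σ (x := x) (show x ∈ (⊤ : X.Opens) from trivial)) :
    Function.Bijective ((St x).map (mulHom σ M)).hom := by
  have hu : Function.Bijective ((St x).map (QCohLib.unitHom Q σ)).hom := by
    refine ⟨fun a b hab => ?_, fun q => ?_⟩
    · obtain ⟨c, rfl⟩ := (KoszIntLib.one'_bijective x).2 a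
      obtain ⟨d, rfl⟩ := (KoszIntLib.one'_bijective x).2 b
      dsimp only at hab ⊢
      rw [stalk_unitHom, stalk_unitHom] at hab
      rw [h.1 hab]
    · obtain ⟨c, hc⟩ := h.2 q
      exact ⟨c • KoszIntLib.one' x, (stalk_unitHom σ x c).trans hc⟩
  haveI : IsIso ((St x).map (QCohLib.unitHom Q σ)) := (ConcreteCategory.isIso_iff_bijective _).2 hu
  have hT : IsIso ((St x).map ((CurvLib.tensorLeft' M).map (QCohLib.unitHom Q σ))) := by
    have h1 := KFlatLib.stalkTensorIso_natural_right (M := M) x (QCohLib.unitHom Q σ)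
    refine IsIso.of_isIso_fac_left (f := (KFlatLib.stalkTensorIso M (Coh.structureModule X) x).hom)
      (h := (MonoidalCategory.tensorLeft ((St x).obj M)).map ((St x).map (QCohLib.unitHom Q σ)) ≫
        (KFlatLib.stalkTensorIso M Q x).hom) ?_
    exact h1.symm
  haveI := hT
  haveI : IsIso ((St x).map (mulHom σ M)) := by rw [mulHom, Functor.map_comp]; infer_instance
  exact ConcreteCategory.bijective_of_isIso _

/-- Multiplication by a section vanishes on a stalk killed by its coefficient. -/
theorem mulHom_eq_zero {Q : X.Modules} (σ : Γ(Q, (⊤ : X.Opens))) (M : X.Modules) {x : X}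
    {c : X.presheaf.stalk x} {g : (St x).obj Q} (hσ : gm Q (U := ⊤) x trivial σ = c • g)
    (hc : ∀ a : (St x).obj M, c • a = 0) (a : (St x).obj M) : ((St x).map (mulHom σ M)).hom a = 0 := by
  obtain ⟨b, hb⟩ := stalk_mulHom σ M x a
  rw [hb]
  have : ((St x).map (QCohLib.unitHom Q σ)).hom.lTensor ((St x).obj M) b = 0 := by
    clear hb
    induction b using TensorProduct.induction_on with
    | zero => rw [map_zero]
    | tmul m o =>
      obtain ⟨d, rfl⟩ := (KoszIntLib.one'_bijective x).2 o
      rw [LinearMap.lTensor_tmul, stalk_unitHom, hσ, smul_smul, ← TensorProduct.smul_tmul, mul_smul,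
        hc, smul_zero, TensorProduct.zero_tmul]
    | add u v hu hv => rw [map_add, hu, hv, add_zero]
  rw [this, map_zero]

/-- High powers of a section kill a module which vanishes off the zeros of the section. -/
theorem exists_pow_kill [IsLocallyNoetherian X] [CompactSpace X] {L : X.Modules} (hL : PicF.IsInvertible L)
    (σ : Γ(L, (⊤ : X.Opens))) (C : X.Modules) (hC : Coh.IsCoh C) (hsupp : ∀ y ∈ genSet hL σ, y ∉ CohB1.support C) :
    ∃ N : ℕ, ∀ n, N ≤ n → mulHom (AmpleThLib.pS σ n) C = 0 := by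
  haveI := hC.1
  have loc : ∀ x : X, ∃ (U : X.Opens) (N : ℕ), x ∈ U ∧ ∀ n, N ≤ n → ∀ y ∈ U, ∀ a : (St y).obj C,
      ((St y).map (mulHom (AmpleThLib.pS σ n) C)).hom a = 0 := by
    intro x
    obtain ⟨W, e, hxW, he⟩ := TwistLib.exists_genOn hL x
    obtain ⟨U, hU, hxU, hUW⟩ := exists_isAffineOpen_mem_and_subset (x := x) (U := W) hxW
    have he' : GenOn L (res L hUW e) := he.res hUW
    obtain ⟨r, hr⟩ := AmpleThLib.exists_coeff σ he'
    have hb := AmpleThLib.mem_genSet_coeff hL σ he' hr
    haveI : IsNoetherianRing Γ(X, U) := IsLocallyNoetherian.component_noetherian ⟨U, hU⟩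
    haveI : Module.Finite Γ(X, U) Γ(C, U) := QCohLib.finite_of_isFT hC.2 hU
    obtain ⟨S, hS⟩ := (inferInstance : Module.Finite Γ(X, U) Γ(C, U)).fg_top
    have hkill : ∀ s : Γ(C, U), ∃ n : ℕ, r ^ n • s = 0 := by
      intro s
      obtain ⟨n, hn⟩ := (QCohLib.localizingAt_of_isQCoh hU C r).eq_zero s
        (TwistLib.mod_ext C fun y hy => by
          have hy' : y ∈ genSet hL σ := (hb.ge hy).1
          exact @Subsingleton.elim _ (ModuleCat.subsingleton_of_isZero ((DevissLib.notMem_support_iff C y).1 (hsupp y hy'))) _ _)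
      exact ⟨n, by simpa using hn⟩
    choose n hn using hkill
    refine ⟨U, S.sup n, hxU, fun m hm y hy a => ?_⟩
    have hann : ∀ s : Γ(C, U), r ^ m • s = 0 := by
      intro s
      have hs : s ∈ Submodule.span Γ(X, U) (S : Set Γ(C, U)) := hS.ge Submodule.mem_top
      induction hs using Submodule.span_induction with
      | mem t ht =>
        obtain ⟨j, rfl⟩ := Nat.exists_eq_add_of_le ((Finset.le_sup ht).trans hm)
        rw [add_comm, pow_add, mul_smul, hn, smul_zero]
      | zero => rw [smul_zero]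
      | add u v _ _ hu hv => rw [smul_add, hu, hv, add_zero]
      | smul c u _ hu => rw [smul_comm, hu, smul_zero]
    refine mulHom_eq_zero _ C (c := X.presheaf.germ U y hy (r ^ m))
      (g := gm (CohB1.tensorPow L m) y hy (AmpleThLib.pS (res L hUW e) m)) ?_ (fun b => ?_) a
    · rw [← gm_smul, ← AmpleThLib.pS_smul, hr, ← AmpleThLib.pS_res]
      exact (gm_map _ le_top y hy _).symm
    · obtain ⟨v, s, hv, hs⟩ := AssPointLib.exists_smul_eq_gm hU hy b
      refine hv.smul_eq_zero.mp ?_
      rw [smul_comm, hs, ← gm_smul, hann, gm_zero]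
  choose U N hxU hN using loc
  obtain ⟨t, ht⟩ := (isCompact_univ (X := X)).elim_finite_subcover (fun x => (U x : Set X)) (fun x => (U x).2)
    (fun x _ => Set.mem_iUnion.2 ⟨x, hxU x⟩)
  refine ⟨t.sup N, fun n hn => eq_zero_of_stalk _ fun y a => ?_⟩
  obtain ⟨x, hxt, hy⟩ := Set.mem_iUnion₂.1 (ht (Set.mem_univ y))
  exact hN x n ((Finset.le_sup hxt).trans hn) y hy a

end TwistEmbLib

end
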