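import Groth.Agent.TwistEmbLib.Basic
import Groth.Agent.ModifPtLib.Curve
import Groth.Agent.SerreVanLib.CurveAmple
import Groth.Agent.BddFamLib.Ops
import Mathlib.GroupTheory.CosetCover

/-!
# Sheaves of depth one on curves embed into twists of free modules
-/

set_option autoImplicit false
set_option linter.style.haveILetI false
set_option backward.isDefEq.respectTransparency false
set_option backward.isDefEq.respectTransparency.types false

noncomputable section

universe u

open CategoryTheory CategoryTheory.Limits AlgebraicGeometry TopologicalSpace Opposite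
open DevissLib
open AmpleLib (res GenAt GenOn)
open TwistLib (genSet)
open DegenGenLib (coprojC ι_coprojC)

namespace TwistEmbLib

variable {X : Scheme.{u}}

theorem asso_of_assPoint [IsLocallyNoetherian X] {M : X.Modules} {x : X} (h : Curv2.IsAssPoint M x) : Asso M x := by
  obtain ⟨-, a, ha⟩ := isAssociatedPrime_iff.mp h
  refine ⟨a, fun h0 => ?_, fun r hr => ?_⟩
  · refine (IsLocalRing.maximalIdeal.isMaximal (X.presheaf.stalk x)).ne_top (eq_top_iff.2 fun c _ => ?_)
    rw [ha, Submodule.mem_colon_singleton, Submodule.mem_bot, show a = 0 from h0, smul_zero]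
  · rw [ha, Submodule.mem_colon_singleton, Submodule.mem_bot] at hr
    exact hr

theorem assPoint_of_asso {M : X.Modules} {x : X} (h : Asso M x) : Curv2.IsAssPoint M x := by
  obtain ⟨a, ha, hm⟩ := h
  refine (AssPointLib.assPoint_iff_weak M x).2 ⟨a, ?_⟩
  have hk : LinearMap.ker (LinearMap.toSpanSingleton (X.presheaf.stalk x) (M.presheaf.stalk x) a) =
      IsLocalRing.maximalIdeal (X.presheaf.stalk x) :=
    ((IsLocalRing.maximalIdeal.isMaximal _).eq_of_le (fun h => ha (by
      have h1 : (1 : X.presheaf.stalk x) ∈ LinearMap.ker (LinearMap.toSpanSingleton _ (M.presheaf.stalk x) a) :=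
        h ▸ Submodule.mem_top
      exact (one_smul _ a).symm.trans h1)) fun r hr => hm r hr).symm
  rw [hk]
  exact (IsLocalRing.maximalIdeal.isMaximal _).isPrime.radical

/-- The value of a homomorphism out of the structure sheaf. -/
def value {M : X.Modules} (η : X) (f : Coh.structureModule X ⟶ M) : (St η).obj M :=
  ((St η).map f).hom (KoszIntLib.one' η)

/-- The coordinates of the stalk of a sum. -/
theorem sum_coproj_stalk {r : ℕ} (L : X.Modules) (x : X) (z : (St x).obj (∐ fun _ : Fin r => L)) :
    z = ∑ i, ((St x).map (Sigma.ι (fun _ : Fin r => L) i)).hom (((St x).map (coprojC L i)).hom z) := by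
  have h : ((St x).map (𝟙 (∐ fun _ : Fin r => L))).hom z = z := by rw [(St x).map_id]; rfl
  conv_lhs => rw [← h, ← DegenGenLib.total_coprojC]
  simp only [Functor.map_sum, Functor.map_comp, ModuleCat.hom_sum, LinearMap.sum_apply, ModuleCat.hom_comp,
    LinearMap.comp_apply]

theorem coproj_ι_stalk {r : ℕ} (L : X.Modules) (x : X) (i j : Fin r) (v : (St x).obj L) :
    ((St x).map (coprojC L i)).hom (((St x).map (Sigma.ι (fun _ : Fin r => L) j)).hom v) = if j = i then v else 0 := by
  rw [← LinearMap.comp_apply, ← ModuleCat.hom_comp, ← Functor.map_comp, ι_coprojC]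
  split_ifs
  · rw [(St x).map_id]; rfl
  · rw [(St x).map_zero]; rfl

/-- A sum of copies of a module with a generating germ is free at the point. -/
def coordEquiv {r : ℕ} (L : X.Modules) (x : X) (g : (St x).obj L)
    (hg : Function.Bijective fun c : X.presheaf.stalk x => c • g) :
    (Fin r → X.presheaf.stalk x) ≃ₗ[X.presheaf.stalk x] (St x).obj (∐ fun _ : Fin r => L) :=
  LinearEquiv.ofBijective (Fintype.linearCombination (X.presheaf.stalk x)
    fun i => ((St x).map (Sigma.ι (fun _ : Fin r => L) i)).hom g) (by
    refine ⟨fun c d h => funext fun j => hg.1 ?_, fun z => ?_⟩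
    · have h1 := congrArg ((St x).map (coprojC L j)).hom h
      simpa [Fintype.linearCombination_apply, map_sum, coproj_ι_stalk] using h1
    · choose c hc using fun i => hg.2 (((St x).map (coprojC L i)).hom z)
      refine ⟨c, ?_⟩
      rw [Fintype.linearCombination_apply]
      refine Eq.trans ?_ (sum_coproj_stalk L x z).symm
      exact Finset.sum_congr rfl fun i _ => by rw [← map_smul, show c i • g = _ from hc i])

theorem isField_of_asso_sum [AlgebraicGeometry.IsReduced X] {r : ℕ} {Q : X.Modules} (hQ : PicF.IsInvertible Q) {x : X}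
    (h : Asso (∐ fun _ : Fin r => Q) x) : IsField (X.presheaf.stalk x) := by
  obtain ⟨a, ha, hm⟩ := h
  obtain ⟨U, e, hxU, he⟩ := TwistLib.exists_genOn hQ x
  obtain ⟨i, hi⟩ : ∃ i, ((St x).map (coprojC Q i)).hom a ≠ 0 := by
    by_contra hne
    push Not at hne
    exact ha ((sum_coproj_stalk Q x a).trans (Finset.sum_eq_zero fun i _ => by rw [hne i, map_zero]))
  obtain ⟨c, hc⟩ := (he.genAt hxU).2 (((St x).map (coprojC Q i)).hom a)
  refine TFExtLib.isField_of_killed (a := c) (fun h0 => hi (by rw [← hc, h0]; exact zero_smul _ _)) fun r hr =>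
    (he.genAt hxU).1 ?_
  dsimp only at hc ⊢
  rw [mul_smul, hc, zero_smul]
  exact (((St x).map (coprojC Q i)).hom.map_smul r a).symm.trans ((congrArg _ (hm r hr)).trans (map_zero _))

theorem span_value [CompactSpace X] {F : X.Modules} (hF : Coh.IsCoh F) (hg : Curv2.IsGloballyGenerated F) (η : X) :
    Submodule.span (X.presheaf.stalk η) (Set.range (value (M := F) η)) = ⊤ := by
  obtain ⟨m, q, hq⟩ := VBResLib.exists_epi_free_of_gg hF hg
  rw [eq_top_iff]
  intro v _
  obtain ⟨z, rfl⟩ := (ModuleCat.epi_iff_surjective ((St η).map q)).mp inferInstance v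
  rw [sum_coproj_stalk (Coh.structureModule X) η z, map_sum]
  refine Submodule.sum_mem _ fun i _ => ?_
  obtain ⟨c, hc⟩ := (KoszIntLib.one'_bijective η).2 (((St η).map (coprojC (Coh.structureModule X) i)).hom z)
  dsimp only at hc
  rw [← hc, map_smul, map_smul]
  refine Submodule.smul_mem _ _ (Submodule.subset_span ⟨Sigma.ι (fun _ : Fin m => Coh.structureModule X) i ≫ q, ?_⟩)
  rw [value, Functor.map_comp]
  rfl

theorem mono_of_gen [IsLocallyNoetherian X] {A B : X.Modules} (φ : A ⟶ B) (hA : Coh.IsCoh A) (hB : Coh.IsQCoh B)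
    (hpure : ∀ x, Asso A x → FinPicLib.IsGen x)
    (h : ∀ η, FinPicLib.IsGen η → Function.Injective ((St η).map φ).hom) : Mono φ := by
  refine Preadditive.mono_of_isZero_kernel φ (isZero_of_support_empty (Set.eq_empty_of_forall_notMem fun x hx => ?_))
  haveI := hB
  obtain ⟨η, hη⟩ := DevissLib.exists_asso (QCohLib.isCoh_kernel φ hA hB) hx
  have hg : FinPicLib.IsGen η := hpure η (hη.of_mono (kernel.ι φ))
  obtain ⟨v, hv, -⟩ := hη
  have hi : Function.Injective ((St η).map (kernel.ι φ)).hom := (ModuleCat.mono_iff_injective _).mp inferInstance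
  refine hv (hi (h η hg ?_))
  rw [← ModuleCat.comp_apply, ← Functor.map_comp, kernel.condition, Functor.map_zero, map_zero, map_zero]
  rfl

variable {k : Type u} [Field k] [X.Over (Spec (CommRingCat.of k))]

theorem value_smul (η : X) {M : X.Modules} (c : k) (f : Coh.structureModule X ⟶ M) :
    ∃ d : X.presheaf.stalk η, value η (c • f) = d • value η f := by
  refine ⟨X.presheaf.germ ⊤ η trivial (X.presheaf.map (homOfLE (le_top : (⊤ : X.Opens) ≤ ⊤)).op
    (Coh.toGlobal (X ↘ Spec (CommRingCat.of k)) c)), ?_⟩
  rw [value, value, value_unitHom, value_unitHom, ← gm_smul]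
  exact congrArg _ (KLin.smul_app_apply c f ⊤ _)

theorem value_add (η : X) {M : X.Modules} (f g : Coh.structureModule X ⟶ M) :
    value η (f + g) = value η f + value η g := by
  rw [value, Functor.map_add]
  rfl

theorem value_zero (η : X) {M : X.Modules} : value η (0 : Coh.structureModule X ⟶ M) = 0 := by
  rw [value, Functor.map_zero]
  rfl

variable (k) in
/-- Finitely many generic points are separated by general sections. -/
theorem exists_frame [Infinite k] [CompactSpace X] {F : X.Modules} (hF : Coh.IsCoh F) (hg : Curv2.IsGloballyGenerated F)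
    (S : Finset X) (hS : ∀ η ∈ S, IsField (X.presheaf.stalk η)) (r : ℕ)
    (hr : ∀ η ∈ S, Nonempty ((St η).obj F ≃ₗ[X.presheaf.stalk η] (Fin r → X.presheaf.stalk η))) :
    ∃ f : Fin r → (Coh.structureModule X ⟶ F), ∀ η ∈ S, LinearIndependent (X.presheaf.stalk η) fun i => value η (f i) := by
  classical
  suffices H : ∀ i, i ≤ r → ∃ f : Fin i → (Coh.structureModule X ⟶ F),
      ∀ η ∈ S, LinearIndependent (X.presheaf.stalk η) fun j => value η (f j) from H r le_rfl
  intro i
  induction i with
  | zero => exact fun _ => ⟨Fin.elim0, fun η _ => linearIndependent_empty_type⟩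
  | succ i ih =>
    intro hi
    obtain ⟨f, hf⟩ := ih (by omega)
    let p : S → Submodule k (Coh.structureModule X ⟶ F) := fun η =>
      { carrier := {g | value η.1 g ∈ Submodule.span (X.presheaf.stalk η.1) (Set.range fun j => value η.1 (f j))}
        add_mem' := fun {a b} ha hb => by
          simp only [Set.mem_setOf_eq] at ha hb ⊢
          rw [value_add]; exact add_mem ha hb
        zero_mem' := by
          simp only [Set.mem_setOf_eq]
          rw [value_zero]; exact zero_mem _
        smul_mem' := fun c a ha => by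
          simp only [Set.mem_setOf_eq] at ha ⊢
          obtain ⟨d, hd⟩ := value_smul η.1 c a
          rw [hd]; exact Submodule.smul_mem _ _ ha }
    obtain ⟨g, hg'⟩ : ∃ g, ∀ η, g ∉ p η := by
      by_contra hne
      push Not at hne
      obtain ⟨η, hη⟩ := Subspace.exists_eq_top_of_iUnion_eq_univ (p := p)
        (Set.eq_univ_of_forall fun g => Set.mem_iUnion.2 (hne g))
      letI := (hS η.1 η.2).toField
      have htop : Submodule.span (X.presheaf.stalk η.1) (Set.range fun j => value η.1 (f j)) = ⊤ := by
        rw [eq_top_iff, ← span_value hF hg η.1, Submodule.span_le]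
        rintro _ ⟨g, rfl⟩
        exact (show g ∈ p η from hη ▸ Submodule.mem_top)
      obtain ⟨e⟩ := hr η.1 η.2
      have h1 := finrank_range_le_card (R := X.presheaf.stalk η.1) fun j => value η.1 (f j)
      rw [Set.finrank, htop, finrank_top, e.finrank_eq, Module.finrank_fin_fun, Fintype.card_fin] at h1
      omega
    refine ⟨Fin.cons g f, fun η hη => ?_⟩
    letI := (hS η hη).toField
    rw [show (fun j => value η ((Fin.cons g f : Fin (i + 1) → _) j)) = Fin.cons (value η g) (fun j => value η (f j)) from
      funext fun j => Fin.cases rfl (fun _ => rfl) j, linearIndependent_finCons]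
    exact ⟨hf η hη, hg' ⟨η, hη⟩⟩

end TwistEmbLib

end
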